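import Cfsg.Agent.H32.TailCert.SuzData

/-!
The kernel checks of the derivation certificate.
-/

set_option autoImplicit false
set_option Elab.async false
set_option maxRecDepth 100000

namespace Cfsg.Agent.H32.TailCert.Suz

theorem cert_ok : cert.check (rels ++ truth) = true := by decide +kernel

theorem cn_ok : combOK cert ((rels ++ truth).length + cert.steps.flatten.length)
    (vscale 6 v0) cn = true := by decide +kernel

theorem comb_ok : ((List.range rels.length).all fun r =>
    combOK cert ((rels ++ truth).length + cert.steps.flatten.length)
      ((if r ∈ pivots then [(r, 2)] else (r, 1) :: (decomp.getD r []).map fun q => (q, -1)) ++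
        vscale (-expo.getD r 0) v0) (comb.getD r [])) = true := by decide +kernel

end Cfsg.Agent.H32.TailCert.Suz
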