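import Cfsg.Agent.H32.TailCert.Bound
import Cfsg.Agent.H32.TailCert.SuzCheck
import Cfsg.Agent.H32.OutSuz.Rows

/-!
The multiplier of the Suzuki group has order at most six and is cyclic.
-/

set_option autoImplicit false
set_option Elab.async false
set_option maxRecDepth 10000

namespace Cfsg.Agent.H32.TailCert.Suz

open Cfsg.Agent.H45
open Cfsg.Agent.H32.OutSuz (G ev wd wd_smul wordAt base5 ptB eq_one_of_fix)

theorem rels_mem : (rels.all fun w => decide (w ∈ SuzPres.pres.R)) = true := by decide +kernel

theorem rels_cover : (SuzPres.pres.R.all fun w =>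
    decide (w ∈ rels) || (List.range 7).any fun l => decide (w = [l, l])) = true := by decide +kernel

theorem truth_fix : (truth.all fun w => w.all (fun l => decide (l < 7)) &&
    (List.finRange 5).all fun k => Nat.beq (wordAt w (ptB k).1) (ptB k).1) = true := by
  decide +kernel

theorem pivots_lt : (pivots.all fun q => Nat.blt q rels.length) = true := by decide +kernel

theorem decomp_mem : ((List.range rels.length).all fun r =>
    (decomp.getD r []).all fun q => decide (q ∈ pivots)) = true := by decide +kernel

theorem decomp_par : ((List.range rels.length).all fun r => decide (r ∈ pivots) ||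
    decide (evalW (par 7) (rels.getD r []) =
      ((decomp.getD r []).map fun q => evalW (par 7) (rels.getD q [])).prod)) = true := by
  decide +kernel

theorem pivots_ind : (pivots.sublists.all fun S => decide (S = []) ||
    !decide ((S.map fun q => evalW (par 7) (rels.getD q [])).prod = 1)) = true := by decide +kernel

theorem gen_top : Subgroup.closure (Set.range SuzPres.pres.e) = ⊤ := by
  rw [eq_top_iff, ← SuzPres.ok.gen]
  exact Subgroup.closure_mono fun x ⟨l, _, hl⟩ => ⟨l, hl⟩

theorem e_sq (l : ℕ) : SuzPres.pres.e l * SuzPres.pres.e l = 1 :=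
  eq_inv_iff_mul_eq_one.1 (eOf_inv SuzPres.ok.sq l)

theorem e_one (l : ℕ) (hl : 7 ≤ l) : SuzPres.pres.e l = 1 := by
  have h : SuzPres.pres.gl[l]? = none := List.getElem?_eq_none hl
  rw [Pres.e, eOf, h]
  rfl

theorem gl_ix : ∀ l < 7, (SuzPres.pres.gl[l]?).map (ixOf SuzPres.pres.gl) = some l := by
  decide +kernel

theorem univ (X : Type) [Group X] (h : ℕ → X) (hsq : ∀ l, h l * h l = 1)
    (h1 : ∀ l, 7 ≤ l → h l = 1) (hR : ∀ w ∈ rels, evalW h w = 1) :
    ∃ ρ : G →* X, ∀ l, ρ (SuzPres.pres.e l) = h l := by
  let f : Cfsg.Spor.Suz.Gen → X := fun x => h (ixOf SuzPres.pres.gl x)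
  have he : eOf SuzPres.pres.gl f = h := by
    funext l
    by_cases hl : l < 7
    · have h2 := gl_ix l hl
      cases hx : SuzPres.pres.gl[l]? with
      | none => rw [hx] at h2; simp at h2
      | some x =>
        rw [hx] at h2
        rw [eOf, hx]
        exact congrArg h (Option.some.inj h2)
    · have hn : SuzPres.pres.gl[l]? = none := List.getElem?_eq_none (not_lt.1 hl)
      rw [eOf, hn, h1 l (not_lt.1 hl)]
      rfl
  have heval : ∀ w ∈ SuzPres.pres.R, evalW (eOf SuzPres.pres.gl f) w = 1 := by
    intro w hw
    rw [he]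
    have h2 := List.all_eq_true.1 rels_cover w hw
    simp only [Bool.or_eq_true, decide_eq_true_eq, List.any_eq_true, List.mem_range] at h2
    rcases h2 with h2 | ⟨l, -, rfl⟩
    · exact hR w h2
    · simp [evalW, hsq]
  have hcox : CoxHolds SuzPres.pres.edges f :=
    coxHolds_of_words SuzPres.ok.all SuzPres.ok.check fun w hw =>
      heval w (List.mem_append_left _ hw)
  have hext : ∀ r ∈ SuzPres.pres.extra, FreeGroup.lift f r = 1 := by
    intro r hr
    have h3 := SuzPres.ok.extra_eval _ f
      (fun x => (eq_inv_of_mul_eq_one_left (sq_of_coxHolds hcox SuzPres.ok.nodes x)).symm)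
    have h4 : FreeGroup.lift f r ∈ SuzPres.pres.extra.map (FreeGroup.lift f) :=
      List.mem_map.mpr ⟨r, hr, rfl⟩
    rw [h3, List.mem_map] at h4
    obtain ⟨w, hw, hwr⟩ := h4
    rw [← hwr]
    exact heval w (List.mem_append_right _ hw)
  have hall : ∀ r ∈ Cfsg.Spor.coxRelators SuzPres.pres.edges ∪ {r | r ∈ SuzPres.pres.extra},
      FreeGroup.lift f r = 1 := by
    rintro r (⟨x, hx, y, hy, rfl⟩ | hr)
    · simpa [map_pow, map_mul, FreeGroup.lift_apply_of] using hcox x hx y hy
    · exact hext r hr
  refine ⟨PresentedGroup.toGroup hall, fun l => ?_⟩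
  rw [← congrFun he l]
  unfold Pres.e eOf
  cases SuzPres.pres.gl[l]? with
  | none => simp
  | some x => exact PresentedGroup.toGroup.of hall

theorem truth_one : ∀ w ∈ rels ++ truth, evalW SuzPres.pres.e w = 1 := by
  intro w hw
  rcases List.mem_append.1 hw with hw | hw
  · exact SuzPres.ok.rel w (of_decide_eq_true (List.all_eq_true.1 rels_mem w hw))
  · have h := List.all_eq_true.1 truth_fix w hw
    rw [Bool.and_eq_true, List.all_eq_true] at h
    refine eq_one_of_fix (g := wd w) fun k => Fin.ext ?_
    rw [wd_smul (List.all_eq_true.2 h.1)]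
    exact Nat.eq_of_beq_eq_true (List.all_eq_true.1 h.2 k (List.mem_finRange k))

/-- The kernel of a stem extension of the Suzuki group is cyclic of order dividing six. -/
theorem exists_surjective_six {Γ : Type} [Group Γ] (σ : Γ →* G) (hσ : Cfsg.IsStemExtension σ) :
    ∃ f : Multiplicative (ZMod 6) →* σ.ker, Function.Surjective f := by
  refine exists_surjective_of_cert 7 SuzPres.pres.e e_sq e_one gen_top rels univ cert truth
    truth_one cert_ok 6 v0 cn pivots (fun r => decomp.getD r []) (fun r => expo.getD r 0)
    (fun r => comb.getD r []) cn_ok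
    (fun r hr => List.all_eq_true.1 comb_ok r (List.mem_range.2 hr)) ?_ ?_ ?_ ?_ σ hσ
  · intro q hq
    simpa using List.all_eq_true.1 pivots_lt q hq
  · intro r hr _ q hq
    exact of_decide_eq_true
      (List.all_eq_true.1 (List.all_eq_true.1 decomp_mem r (List.mem_range.2 hr)) q hq)
  · intro r hr hrQ
    have h := List.all_eq_true.1 decomp_par r (List.mem_range.2 hr)
    simpa [hrQ] using h
  · intro S hS h1
    have h := List.all_eq_true.1 pivots_ind S hS
    rw [decide_eq_true h1, Bool.not_true, Bool.or_false] at h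
    exact of_decide_eq_true h

end Cfsg.Agent.H32.TailCert.Suz
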