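import Cfsg.Agent.H32.TailCert.Stem
import Cfsg.Agent.Linear.Mult.CentralQuot

/-!
Kernels of stem extensions are cyclic of bounded order when a derivation certificate checks.
-/

set_option autoImplicit false
set_option linter.style.haveILetI false

namespace Cfsg.Agent.H32.TailCert

open Subgroup
open Cfsg.Agent.H45 (evalW evalW_append evalW_cons evalW_nil)
open scoped IsMulCommutative commutatorElement

theorem evalW_map {X Y : Type*} [Group X] [Group Y] (f : X →* Y) (e : ℕ → X) (w : List ℕ) :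
    f (evalW e w) = evalW (fun l => f (e l)) w := by
  simp [evalW, map_list_prod, List.map_map, Function.comp_def]

/-- Adjoining square roots of central squares of the lifts: a group containing `Γ`, still central
over `G`, in which lifts of the generators are involutions and generate modulo the centre. -/
theorem exists_pushout {G Γ : Type} [Group G] [Group Γ] {σ : Γ →* G}
    (hσ : Cfsg.IsStemExtension σ) (L : ℕ) (g : ℕ → G) (hg : ∀ l, g l * g l = 1)
    (hone : ∀ l, L ≤ l → g l = 1) :
    ∃ (D : Type) (_ : Group D) (π : D →* G) (ι : Γ →* D) (y : ℕ → D),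
      Function.Injective ι ∧ π.comp ι = σ ∧ π.ker ≤ center D ∧ (∀ l, y l * y l = 1) ∧
        (∀ l, π (y l) = g l) ∧ ∀ l, L ≤ l → y l = 1 := by
  choose x hx using fun i : Fin L => hσ.1 (g i)
  have hs : ∀ i : Fin L, x i * x i ∈ σ.ker := fun i => by
    rw [MonoidHom.mem_ker, map_mul, hx, hg]
  let C : Subgroup Γ := center Γ
  let s : Fin L → Additive C := fun i => Additive.ofMul ⟨x i * x i, hσ.2.1 (hs i)⟩
  let ψa : (Fin L → ℤ) →+ Additive C :=
    ∑ i, (zmultiplesHom (Additive C) (s i)).comp (Pi.evalAddMonoidHom _ i)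
  have hψa : ∀ e : Fin L → ℤ, ψa e = ∑ i, e i • s i := fun e => by
    simp [ψa, AddMonoidHom.finsetSum_apply]
  let ψ : Multiplicative (Fin L → ℤ) →* Γ := C.subtype.comp (AddMonoidHom.toMultiplicativeLeft ψa)
  have hψc : ∀ e, ψ e ∈ center Γ := fun e => (AddMonoidHom.toMultiplicativeLeft ψa e).2
  have hψσ : ∀ e, σ (ψ e) = 1 := by
    intro e
    have hcs : ∀ i : Fin L, ∀ n : ℤ, σ ((Additive.toMul (n • s i) : C) : Γ) = 1 := fun i n => by
      rw [toMul_zsmul, SubgroupClass.coe_zpow, map_zpow]
      simp only [s, toMul_ofMul]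
      rw [MonoidHom.mem_ker.1 (hs i), one_zpow]
    show σ ((Additive.toMul (ψa e.toAdd) : C) : Γ) = 1
    rw [hψa]
    refine Finset.sum_induction _ (fun v : Additive C => σ ((Additive.toMul v : C) : Γ) = 1)
      (fun v w hv hw => ?_) ?_ fun i _ => hcs i _
    · rw [toMul_add, Subgroup.coe_mul, map_mul, hv, hw, one_mul]
    · rw [toMul_zero, Subgroup.coe_one, map_one]
  let θ : Multiplicative (Fin L → ℤ) →* Γ × Multiplicative (Fin L → ℤ) :=
    ψ.prod (zpowGroupHom (-2))
  let K := θ.range
  have hKc : K ≤ center (Γ × Multiplicative (Fin L → ℤ)) := by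
    rintro _ ⟨e, rfl⟩
    rw [mem_center_iff]
    intro w
    exact Prod.ext (mem_center_iff.1 (hψc e) w.1) (mul_comm _ _)
  haveI : K.Normal := ⟨fun k hk w => by
    rw [mem_center_iff.1 (hKc hk) w, mul_inv_cancel_right]; exact hk⟩
  let π₀ : Γ × Multiplicative (Fin L → ℤ) →* G := σ.comp (MonoidHom.fst _ _)
  have hK1 : K ≤ π₀.ker := by
    rintro _ ⟨e, rfl⟩
    exact hψσ e
  let π := QuotientGroup.lift K π₀ hK1
  let ι : Γ →* (Γ × Multiplicative (Fin L → ℤ)) ⧸ K :=
    (QuotientGroup.mk' K).comp (MonoidHom.inl _ _)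
  let ee : Fin L → Multiplicative (Fin L → ℤ) := fun i => Multiplicative.ofAdd (Pi.single i (1 : ℤ))
  let y : ℕ → (Γ × Multiplicative (Fin L → ℤ)) ⧸ K := fun l =>
    if h : l < L then QuotientGroup.mk' K (x ⟨l, h⟩, (ee ⟨l, h⟩)⁻¹) else 1
  refine ⟨_, inferInstance, π, ι, y, ?_, rfl, ?_, ?_, ?_, ?_⟩
  · rw [injective_iff_map_eq_one]
    intro γ hγ
    obtain ⟨e, he⟩ := (QuotientGroup.eq_one_iff _).1 hγ
    have h2 : e ^ (-2 : ℤ) = 1 := congrArg Prod.snd he
    have h1 : ψ e = γ := congrArg Prod.fst he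
    have he0 : e = 1 := by
      apply Multiplicative.toAdd.injective
      funext i
      have h4 := congrFun (congrArg Multiplicative.toAdd h2) i
      rw [toAdd_zpow, toAdd_one, Pi.smul_apply, Pi.zero_apply, smul_eq_mul] at h4
      rw [toAdd_one, Pi.zero_apply]
      omega
    rw [← h1, he0, map_one]
  · intro d hd
    induction d using QuotientGroup.induction_on with
    | _ w =>
      rw [mem_center_iff]
      intro d'
      induction d' using QuotientGroup.induction_on with
      | _ w' =>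
        have hw : σ w.1 = 1 := hd
        exact congrArg (QuotientGroup.mk' K)
          (Prod.ext (mem_center_iff.1 (hσ.2.1 (MonoidHom.mem_ker.2 hw)) w'.1) (mul_comm _ _) :
            w' * w = w * w')
  · intro l
    simp only [y]
    split
    · rename_i h
      rw [← map_mul, QuotientGroup.mk'_apply, QuotientGroup.eq_one_iff]
      refine ⟨ee ⟨l, h⟩, Prod.ext ?_ ?_⟩
      · show ((Additive.toMul (ψa (Pi.single ⟨l, h⟩ 1)) : C) : Γ) = x ⟨l, h⟩ * x ⟨l, h⟩
        rw [hψa, Finset.sum_eq_single ⟨l, h⟩ (fun j _ hj => by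
          rw [Pi.single_eq_of_ne hj, zero_zsmul]) (fun hn => absurd (Finset.mem_univ _) hn),
          Pi.single_eq_same, one_zsmul]
        rfl
      · show (ee ⟨l, h⟩) ^ (-2 : ℤ) = (ee ⟨l, h⟩)⁻¹ * (ee ⟨l, h⟩)⁻¹
        rw [zpow_neg, zpow_two, mul_inv_rev]
    · exact mul_one 1
  · intro l
    simp only [y]
    split
    · rename_i h
      exact hx ⟨l, h⟩
    · rename_i h
      rw [map_one, hone l (not_lt.1 h)]
  · intro l hl
    simp only [y, dif_neg (not_lt.2 hl)]

theorem val_cons_neg {A : Type*} [CommGroup A] (z : ℕ → A) (r : ℕ) : ∀ l : List ℕ,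
    val z ((r, 1) :: l.map fun q => (q, -1)) = z r * ((l.map z).prod)⁻¹
  | [] => by simp [val]
  | q :: l => by
    have h := val_cons_neg z r l
    simp only [val, List.map_cons, List.prod_cons, zpow_one] at h ⊢
    rw [mul_inv_rev, zpow_neg, zpow_one, mul_left_comm, h, mul_left_comm, mul_comm (z q)⁻¹]

/-- The upper bound. -/
theorem exists_surjective_of_cert {G : Type} [Group G] (L : ℕ) (g : ℕ → G)
    (hg : ∀ l, g l * g l = 1) (hone : ∀ l, L ≤ l → g l = 1)
    (hgen : closure (Set.range g) = ⊤) (R : List (List ℕ))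
    (huniv : ∀ (X : Type) [Group X] (h : ℕ → X), (∀ l, h l * h l = 1) →
      (∀ l, L ≤ l → h l = 1) → (∀ w ∈ R, evalW h w = 1) →
        ∃ ρ : G →* X, ∀ l, ρ (g l) = h l)
    (C : Cert) (truth : List (List ℕ)) (hR : ∀ w ∈ R ++ truth, evalW g w = 1)
    (hC : C.check (R ++ truth) = true) (n : ℕ) (v₀ : Vec) (cn : List (ℤ × ℕ))
    (Q : List ℕ) (dc : ℕ → List ℕ) (kq : ℕ → ℤ) (cq : ℕ → List (ℤ × ℕ))
    (hn : combOK C ((R ++ truth).length + C.steps.flatten.length) (vscale n v₀) cn = true)
    (hb : ∀ r < R.length, combOK C ((R ++ truth).length + C.steps.flatten.length)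
      ((if r ∈ Q then [(r, 2)] else (r, 1) :: (dc r).map fun q => (q, -1)) ++ vscale (-kq r) v₀)
        (cq r) = true)
    (hQ : ∀ q ∈ Q, q < R.length) (hdc : ∀ r < R.length, r ∉ Q → ∀ q ∈ dc r, q ∈ Q)
    (hp : ∀ r < R.length, r ∉ Q →
      evalW (par L) (R.getD r []) = ((dc r).map fun q => evalW (par L) (R.getD q [])).prod)
    (hind : ∀ S ∈ Q.sublists, (S.map fun q => evalW (par L) (R.getD q [])).prod = 1 → S = [])
    {Γ : Type} [Group Γ] (σ : Γ →* G) (hσ : Cfsg.IsStemExtension σ) :
    ∃ f : Multiplicative (ZMod n) →* σ.ker, Function.Surjective f := by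
  obtain ⟨D, _, π, ι, y, hι, hπι, hπc, hy, hπy, hy1⟩ := exists_pushout hσ L g hg hone
  have hz : ∀ w ∈ R ++ truth, evalW y w ∈ center D := fun w hw => hπc (by
    rw [MonoidHom.mem_ker, evalW_map, show (fun l => π (y l)) = g from funext hπy]
    exact hR w hw)
  have hzd : ∀ i, evalW y ((R ++ truth).getD i []) ∈ center D := fun i => by
    by_cases hi : i < (R ++ truth).length
    · rw [List.getD_eq_getElem _ _ hi]; exact hz _ (List.getElem_mem hi)
    · rw [List.getD_eq_default _ _ (not_lt.1 hi), evalW_nil]; exact one_mem _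
  let z : ℕ → center D := fun i => ⟨_, hzd i⟩
  have hh := C.holds (z := z) hy hC fun j hj => by
    show evalW y _ = evalW y ((R ++ truth).getD j [])
    rw [List.getD_eq_getElem _ _ hj]
  -- pairs of a value and a parity
  let P := Multiplicative (Fin L → ZMod 2)
  let h2 : ℕ → D × P := fun l => (y l, if l < L then par L l else 1)
  have h2sq : ∀ l, h2 l * h2 l = 1 := fun l => Prod.ext (hy l) (by
    show (if l < L then par L l else 1) * (if l < L then par L l else 1) = 1
    split
    · exact par_sq L l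
    · exact mul_one 1)
  have h21 : ∀ l, L ≤ l → h2 l = 1 := fun l hl =>
    Prod.ext (hy1 l hl) (by show (if l < L then par L l else 1) = 1; rw [if_neg (not_lt.2 hl)])
  have hpar : ∀ w : List ℕ, evalW (fun l => if l < L then par L l else 1) w = evalW (par L) w := by
    intro w
    congr 1
    funext l
    split
    · rfl
    · rename_i h
      rw [par]
      exact congrArg Multiplicative.ofAdd (funext fun i =>
        (if_neg (by intro hi; exact h (hi ▸ i.2))).symm)
  have hev : ∀ w, evalW h2 w = (evalW y w, evalW (par L) w) := fun w => Prod.ext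
    (evalW_map (MonoidHom.fst D P) h2 w) ((evalW_map (MonoidHom.snd D P) h2 w).trans (hpar w))
  let S : Subgroup (D × P) := closure (Set.range h2)
  let T : Subgroup (D × P) := closure {w | ∃ r < R.length, evalW h2 (R.getD r []) = w}
  have hTc : T ≤ center (D × P) := by
    rw [closure_le]
    rintro _ ⟨r, hr, rfl⟩
    rw [SetLike.mem_coe, hev, mem_center_iff]
    intro w
    have hc : evalW y (R.getD r []) ∈ center D := hz _ (List.mem_append_left _ (by
      rw [List.getD_eq_getElem _ _ hr]; exact List.getElem_mem hr))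
    exact Prod.ext (mem_center_iff.1 hc w.1) (mul_comm _ _)
  haveI : T.Normal := ⟨fun k hk w => by
    rw [mem_center_iff.1 (hTc hk) w, mul_inv_cancel_right]; exact hk⟩
  obtain ⟨ρ, hρ⟩ := huniv ((D × P) ⧸ T) (fun l => QuotientGroup.mk' T (h2 l))
    (fun l => by rw [← map_mul, h2sq, map_one]) (fun l hl => by rw [h21 l hl, map_one])
    (fun w hw => by
      rw [← evalW_map, QuotientGroup.mk'_apply, QuotientGroup.eq_one_iff]
      obtain ⟨r, hr, rfl⟩ := List.getElem_of_mem hw
      exact subset_closure ⟨r, hr, by rw [List.getD_eq_getElem _ _ hr]⟩)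
  let πS : D × P →* G := π.comp (MonoidHom.fst _ _)
  have hST : ∀ s ∈ S, ρ (πS s) = QuotientGroup.mk' T s := by
    intro s hs
    induction hs using closure_induction with
    | mem w hw =>
      obtain ⟨l, rfl⟩ := hw
      rw [show πS (h2 l) = π (y l) from rfl, hπy, hρ]
    | one => rw [map_one, map_one, map_one]
    | mul a b _ _ ha hb => rw [map_mul, map_mul, map_mul, ha, hb]
    | inv a _ ha => rw [map_inv, map_inv, map_inv, ha]
  -- every element is a lift times a central one
  have hcov : ∀ γ : D, ∃ s ∈ S, ∃ c ∈ center D, γ = s.1 * c := by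
    intro γ
    have hmap : π γ ∈ S.map πS := by
      have htop : S.map πS = ⊤ := by
        rw [eq_top_iff, ← hgen, closure_le]
        rintro _ ⟨l, rfl⟩
        exact ⟨h2 l, subset_closure ⟨l, rfl⟩, hπy l⟩
      rw [htop]; exact mem_top _
    obtain ⟨s, hs, he⟩ := hmap
    refine ⟨s, hs, s.1⁻¹ * γ, hπc ?_, (mul_inv_cancel_left _ _).symm⟩
    rw [MonoidHom.mem_ker, map_mul, map_inv, show π s.1 = π γ from he, inv_mul_cancel]
  let M : Subgroup D := ((MonoidHom.snd D P).ker ⊓ S).map (MonoidHom.fst D P)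
  have hM : commutator D ≤ M := by
    rw [commutator_def, commutator_le]
    intro a _ b _
    obtain ⟨s, hs, c, hc, rfl⟩ := hcov a
    obtain ⟨t, ht, c', hc', rfl⟩ := hcov b
    refine ⟨⁅s, t⁆, ⟨?_, ?_⟩, ?_⟩
    · show MonoidHom.snd D P ⁅s, t⁆ = 1
      rw [map_commutatorElement]
      exact commutatorElement_eq_one_iff_mul_comm.2 (mul_comm _ _)
    · show ⁅s, t⁆ ∈ S
      exact mul_mem (mul_mem (mul_mem hs ht) (inv_mem hs)) (inv_mem ht)
    · rw [map_commutatorElement]
      exact (H74.Schur.commutatorElement_mul_central hc hc').symm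
  let H : Subgroup (center D) := zpowers (val z v₀)
  have hker : ∀ γ : Γ, γ ∈ σ.ker → ∃ a ∈ H, (a : D) = ι γ := by
    intro γ hγ
    have h1 : ι γ ∈ M := hM (by
      have := mem_map_of_mem ι (hσ.2.2 hγ)
      rw [_root_.commutator_def, map_commutator] at this
      rw [_root_.commutator_def]
      exact commutator_mono le_top le_top this)
    obtain ⟨s, ⟨hs2, hsS⟩, hs1⟩ := h1
    have hsT : s ∈ T := by
      have h0 : πS s = 1 := by
        show π s.1 = 1
        rw [show s.1 = ι γ from hs1, ← MonoidHom.comp_apply, hπι, MonoidHom.mem_ker.1 hγ]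
      have := hST s hsS
      rw [h0, map_one] at this
      exact (QuotientGroup.eq_one_iff s).1 this.symm
    let φ : center D × P →* D × P := (center D).subtype.prodMap (MonoidHom.id P)
    have hTmap : T ≤
        (closure {w : center D × P | ∃ r < R.length, (z r, evalW (par L) (R.getD r [])) = w}).map φ := by
      rw [closure_le]
      rintro _ ⟨r, hr, rfl⟩
      refine ⟨_, subset_closure ⟨r, hr, rfl⟩, ?_⟩
      rw [hev]
      show ((z r : D), evalW (par L) (R.getD r [])) = _
      simp only [z, List.getD_append _ _ _ _ hr]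
    obtain ⟨⟨a, p⟩, hw, he⟩ := hTmap hsT
    have hp1 : p = 1 := (congrArg Prod.snd he).trans (MonoidHom.mem_ker.1 hs2)
    subst hp1
    refine ⟨a, ?_, (congrArg Prod.fst he).trans hs1⟩
    refine mem_of_pairs H z (fun r => evalW (par L) (R.getD r [])) R.length Q dc ?_ hp hdc ?_ ?_
      hind hw
    · intro r hr hrQ
      have h1 := val_eq_one_of_comb hy hh (hb r hr)
      rw [if_neg hrQ, val_append, val_vscale, val_cons_neg, mul_eq_one_iff_eq_inv, zpow_neg,
        inv_inv] at h1
      rw [h1]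
      exact zpow_mem (mem_zpowers _) _
    · intro q hq
      have hq' : q < R.length := hQ q hq
      have h1 := val_eq_one_of_comb hy hh (hb q hq')
      rw [if_pos hq, val_append, val_vscale, mul_eq_one_iff_eq_inv, zpow_neg, inv_inv] at h1
      rw [show z q * z q = z q ^ (2 : ℤ) from (zpow_two _).symm,
        show z q ^ (2 : ℤ) = val z [(q, 2)] by simp [val], h1]
      exact zpow_mem (mem_zpowers _) _
    · intro q _
      exact Multiplicative.toAdd.injective (funext fun i => CharTwo.add_self_eq_zero _)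
  -- the kernel is a quotient of a cyclic group of order `n`
  choose a haH ha using fun γ : σ.ker => hker γ.1 γ.2
  have hinj : Function.Injective a := fun γ δ h => Subtype.ext (hι (by
    rw [← ha γ, ← ha δ, h]))
  let f0 : σ.ker →* H :=
    { toFun := fun γ => ⟨a γ, haH γ⟩
      map_one' := Subtype.ext (Subtype.ext (by
        show (a 1 : D) = 1
        rw [ha, OneMemClass.coe_one, map_one]))
      map_mul' := fun γ δ => Subtype.ext (Subtype.ext (by
        show (a (γ * δ) : D) = (a γ : D) * (a δ : D)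
        rw [ha, ha, ha, MulMemClass.coe_mul, map_mul])) }
  haveI : IsCyclic σ.ker :=
    isCyclic_of_injective f0 fun γ δ h => hinj (congrArg Subtype.val h)
  obtain ⟨γ0, hγ0⟩ := IsCyclic.exists_generator (α := σ.ker)
  have hpow : γ0 ^ (n : ℤ) = 1 := by
    have hv : val z v₀ ^ (n : ℤ) = 1 := by
      rw [← val_vscale]; exact val_eq_one_of_comb hy hh hn
    obtain ⟨j, hj⟩ := mem_zpowers_iff.1 (haH γ0)
    refine Subtype.ext (hι ?_)
    have h3 : (a γ0 : D) ^ (n : ℤ) = 1 := by
      rw [← SubgroupClass.coe_zpow, ← hj, ← zpow_mul, mul_comm, zpow_mul, hv, one_zpow,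
        OneMemClass.coe_one]
    rw [SubgroupClass.coe_zpow, map_zpow, ← ha, h3, OneMemClass.coe_one, map_one]
  let g0 : ℤ →+ Additive σ.ker := zmultiplesHom _ (Additive.ofMul γ0)
  have hg0 : g0 (n : ℤ) = 0 := by
    show (n : ℤ) • Additive.ofMul γ0 = 0
    rw [← ofMul_zpow, hpow, ofMul_one]
  refine ⟨AddMonoidHom.toMultiplicativeLeft (ZMod.lift n ⟨g0, hg0⟩), fun δ => ?_⟩
  obtain ⟨j, rfl⟩ := mem_zpowers_iff.1 (hγ0 δ)
  refine ⟨Multiplicative.ofAdd (j : ZMod n), ?_⟩
  show Additive.toMul (ZMod.lift n ⟨g0, hg0⟩ (j : ZMod n)) = γ0 ^ j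
  rw [ZMod.lift_coe]
  rfl

end Cfsg.Agent.H32.TailCert
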