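import Cfsg.Agent.H45.CosetSound

/-!
Derivations among relators of a group on involutive letters: a fact says that the value of a word
is a given product of central elements; new facts follow as products of conjugates of earlier ones.
-/

set_option autoImplicit false

namespace Cfsg.Agent.H32.TailCert

open Cfsg.Agent.H45 (evalW evalW_append evalW_cons evalW_nil)
open scoped IsMulCommutative

/-- Decode a packed word: a digit in base 8 is a letter increased by one. -/
def decAux : ℕ → ℕ → List ℕ
  | 0, _ => []
  | f + 1, m => if m % 8 = 0 then [] else (m % 8 - 1) :: decAux f (m / 8)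

/-- Decode a packed word. -/
def dec (m : ℕ) : List ℕ := decAux 1000 m

/-- Prepend a letter, cancelling it against an equal head. -/
def push (x : ℕ) : List ℕ → List ℕ
  | [] => [x]
  | y :: t => cond (Nat.beq x y) t (x :: y :: t)

/-- Reduction in the free product of groups of order two. -/
def red (w : List ℕ) : List ℕ := w.foldr push []

/-- Equality of words. -/
def eqW : List ℕ → List ℕ → Bool
  | [], [] => true
  | x :: a, y :: b => Nat.beq x y && eqW a b
  | _, _ => false

/-- A sparse vector. -/
abbrev Vec : Type := List (ℕ × ℤ)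

/-- A fact: a word and a vector. -/
structure Fact where
  w : ℕ
  v : Vec

/-- An item of a derivation: a conjugating word, an earlier fact and a sign. -/
structure Item where
  c : ℕ
  i : ℕ
  s : Bool

/-- The word of an item. -/
def itemWord (T : List Fact) (t : Item) : List ℕ :=
  let u := dec (T.getD t.i ⟨0, []⟩).w
  dec t.c ++ ((cond t.s u u.reverse) ++ (dec t.c).reverse)

/-- A multiple of a vector. -/
def vscale (k : ℤ) (v : Vec) : Vec := v.map fun p => (p.1, k * p.2)

/-- The vector of an item. -/
def itemVec (T : List Fact) (t : Item) : Vec :=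
  let v := (T.getD t.i ⟨0, []⟩).v
  cond t.s v (vscale (-1) v)

/-- Add an entry to a dense vector. -/
def addAt : List ℤ → ℕ → ℤ → List ℤ
  | [], _, _ => []
  | a :: t, 0, x => (a + x) :: t
  | a :: t, k + 1, x => a :: addAt t k x

/-- The dense form of a vector of length `K`. -/
def dense (K : ℕ) (v : Vec) : List ℤ :=
  v.foldr (fun p acc => addAt acc p.1 p.2) (List.replicate K 0)

/-- All entries are below `K`. -/
def vok (K : ℕ) (v : Vec) : Bool := v.all fun p => Nat.blt p.1 K

/-- Equality of two vectors of length `K`. -/
def veq (K : ℕ) (a b : Vec) : Bool :=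
  vok K a && vok K b && decide (dense K a = dense K b)

/-- A step of a derivation: the fact `i` follows from the items. -/
def stepOK (K : ℕ) (T : List Fact) (i : ℕ) (its : List Item) : Bool :=
  (its.all fun t => Nat.blt t.i i) &&
    eqW (red (its.flatMap (itemWord T))) (red (dec (T.getD i ⟨0, []⟩).w)) &&
    veq K (its.flatMap (itemVec T)) (T.getD i ⟨0, []⟩).v

/-- All steps of a derivation, numbered from `i` on. -/
def stepsOK (K : ℕ) (T : List Fact) : ℕ → List (List Item) → Bool
  | _, [] => true
  | i, its :: rest => stepOK K T i its && stepsOK K T (i + 1) rest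

/-- The initial facts: the given words, with the unit vectors. -/
def baseOK (T : List Fact) : ℕ → List (List ℕ) → Bool
  | _, [] => true
  | i, w :: rest =>
    (eqW (dec (T.getD i ⟨0, []⟩).w) w && decide ((T.getD i ⟨0, []⟩).v = [(i, 1)])) &&
      baseOK T (i + 1) rest

theorem eqW_eq : ∀ {a b : List ℕ}, eqW a b = true → a = b
  | [], [], _ => rfl
  | [], _ :: _, h => by simp [eqW] at h
  | _ :: _, [], h => by simp [eqW] at h
  | x :: a, y :: b, h => by
    simp only [eqW, Bool.and_eq_true] at h
    rw [Nat.eq_of_beq_eq_true h.1, eqW_eq h.2]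

section Eval

variable {D : Type*} [Group D] {y : ℕ → D}

theorem evalW_push (hy : ∀ l, y l * y l = 1) (x : ℕ) :
    ∀ w : List ℕ, evalW y (push x w) = y x * evalW y w
  | [] => by simp [push, evalW]
  | z :: t => by
    simp only [push]
    by_cases h : Nat.beq x z = true
    · rw [h, cond_true, evalW_cons, Nat.eq_of_beq_eq_true h, ← mul_assoc, hy, one_mul]
    · rw [Bool.not_eq_true _ |>.mp h, cond_false, evalW_cons]

theorem evalW_red (hy : ∀ l, y l * y l = 1) : ∀ w : List ℕ, evalW y (red w) = evalW y w
  | [] => rfl
  | x :: w => by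
    rw [red, List.foldr_cons, evalW_push hy, evalW_cons, ← evalW_red hy w, red]

theorem evalW_reverse (hy : ∀ l, y l * y l = 1) :
    ∀ w : List ℕ, evalW y w.reverse = (evalW y w)⁻¹
  | [] => by simp [evalW]
  | x :: w => by
    rw [List.reverse_cons, evalW_append, evalW_reverse hy w, evalW_cons, evalW_cons, evalW_nil,
      mul_one, mul_inv_rev, ← eq_inv_of_mul_eq_one_left (hy x)]

/-- The product of central elements given by a vector. -/
def val {C : Type*} [CommGroup C] (z : ℕ → C) (v : Vec) : C :=
  (v.map fun p => z p.1 ^ p.2).prod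

variable {C : Type*} [CommGroup C] (z : ℕ → C)

theorem val_nil : val z [] = 1 := rfl

theorem val_append (a b : Vec) : val z (a ++ b) = val z a * val z b := by
  simp [val, List.map_append, List.prod_append]

theorem val_vscale (k : ℤ) : ∀ v : Vec, val z (vscale k v) = val z v ^ k
  | [] => by simp [vscale, val]
  | p :: v => by
    have h := val_vscale k v
    simp only [val, vscale, List.map_cons, List.prod_cons] at h ⊢
    rw [h, mul_zpow, ← zpow_mul, mul_comm k]

theorem val_single (i : ℕ) : val z [(i, 1)] = z i := by simp [val]

/-- The product of a dense vector. -/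
def dprod : List ℤ → ℕ → C
  | [], _ => 1
  | a :: t, k => z k ^ a * dprod t (k + 1)

theorem dprod_addAt : ∀ (L : List ℤ) (k j : ℕ) (x : ℤ), j < L.length →
    dprod z (addAt L j x) k = dprod z L k * z (k + j) ^ x
  | [], _, _, _, h => absurd h (by simp)
  | a :: t, k, 0, x, _ => by
    simp only [addAt, dprod, zpow_add, Nat.add_zero]
    exact mul_right_comm _ _ _
  | a :: t, k, j + 1, x, h => by
    simp only [addAt, dprod]
    rw [dprod_addAt t (k + 1) j x (by simpa using h), mul_assoc,
      show k + 1 + j = k + (j + 1) by omega]

theorem addAt_length : ∀ (L : List ℤ) (j : ℕ) (x : ℤ), (addAt L j x).length = L.length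
  | [], _, _ => rfl
  | _ :: _, 0, _ => rfl
  | a :: t, j + 1, x => by simp [addAt, addAt_length t j x]

theorem dense_length (K : ℕ) : ∀ v : Vec, (dense K v).length = K
  | [] => by simp [dense]
  | p :: v => by
    rw [dense, List.foldr_cons, addAt_length, ← dense, dense_length K v]

theorem dprod_zero : ∀ K k : ℕ, dprod z (List.replicate K 0) k = 1
  | 0, _ => rfl
  | K + 1, k => by simp [List.replicate_succ, dprod, dprod_zero K]

theorem val_eq_dprod {K : ℕ} : ∀ {v : Vec}, vok K v = true → val z v = dprod z (dense K v) 0
  | [], _ => by simp [dense, dprod_zero, val]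
  | p :: v, h => by
    simp only [vok, List.all_cons, Bool.and_eq_true] at h
    have hp : p.1 < K := by simpa using h.1
    rw [dense, List.foldr_cons, ← dense, dprod_addAt z _ _ _ _ (by rw [dense_length]; exact hp),
      ← val_eq_dprod (v := v) h.2, Nat.zero_add, val, val, List.map_cons, List.prod_cons, mul_comm]

theorem val_eq_of_veq {K : ℕ} {a b : Vec} (h : veq K a b = true) : val z a = val z b := by
  simp only [veq, Bool.and_eq_true, decide_eq_true_eq] at h
  rw [val_eq_dprod z h.1.1, val_eq_dprod z h.1.2, h.2]

end Eval

section Sound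

variable {D : Type*} [Group D] (z : ℕ → Subgroup.center D) (T : List Fact)

/-- The fact `i` holds. -/
def Holds (y : ℕ → D) (i : ℕ) : Prop :=
  evalW y (dec (T.getD i ⟨0, []⟩).w) = ((val z (T.getD i ⟨0, []⟩).v : Subgroup.center D) : D)

variable {z T} {y : ℕ → D} (hy : ∀ l, y l * y l = 1)
include hy

theorem items_eval : ∀ {its : List Item}, (∀ t ∈ its, Holds z T y t.i) →
    evalW y (its.flatMap (itemWord T)) = ((val z (its.flatMap (itemVec T)) : Subgroup.center D) : D)
  | [], _ => by simp [val, evalW]
  | t :: its, h => by
    rw [List.flatMap_cons, List.flatMap_cons, evalW_append, val_append, Subgroup.coe_mul,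
      items_eval fun u hu => h u (List.mem_cons_of_mem _ hu)]
    congr 1
    have ht : Holds z T y t.i := h t List.mem_cons_self
    rw [Holds] at ht
    have hcu : evalW y (cond t.s (dec (T.getD t.i ⟨0, []⟩).w) (dec (T.getD t.i ⟨0, []⟩).w).reverse)
        = ((val z (itemVec T t) : Subgroup.center D) : D) := by
      cases hs : t.s
      · rw [cond_false, evalW_reverse hy, ht, itemVec, hs, cond_false, val_vscale, zpow_neg,
          zpow_one, Subgroup.coe_inv]
      · rw [cond_true, ht, itemVec, hs, cond_true]
    rw [itemWord, evalW_append, evalW_append, hcu, evalW_reverse hy, ← mul_assoc,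
      Subgroup.mem_center_iff.1 (val z (itemVec T t)).2, mul_assoc, mul_inv_cancel, mul_one]

theorem step_holds {K i : ℕ} {its : List Item} (h : stepOK K T i its = true)
    (hlt : ∀ j < i, Holds z T y j) : Holds z T y i := by
  simp only [stepOK, Bool.and_eq_true, List.all_eq_true] at h
  rw [Holds, ← evalW_red hy, ← eqW_eq h.1.2, evalW_red hy,
    items_eval hy fun t ht => hlt t.i (by simpa using h.1.1 t ht), val_eq_of_veq z h.2]

theorem steps_hold {K : ℕ} : ∀ {ss : List (List Item)} {i : ℕ}, stepsOK K T i ss = true →
    (∀ j < i, Holds z T y j) → ∀ j < i + ss.length, Holds z T y j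
  | [], i, _, h, j, hj => h j (by simpa using hj)
  | its :: rest, i, hc, h, j, hj => by
    simp only [stepsOK, Bool.and_eq_true] at hc
    refine steps_hold hc.2 (fun k hk => ?_) j (by simp only [List.length_cons] at hj; omega)
    rcases Nat.lt_succ_iff_lt_or_eq.1 hk with hk | rfl
    · exact h k hk
    · exact step_holds hy hc.1 h

end Sound

theorem base_holds {D : Type*} [Group D] {y : ℕ → D} {z : ℕ → Subgroup.center D} {T : List Fact} :
    ∀ {B : List (List ℕ)} {i : ℕ}, baseOK T i B = true →
      (∀ j, ∀ hj : j < B.length, evalW y B[j] = (z (i + j) : D)) →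
      ∀ j, i ≤ j → j < i + B.length → Holds z T y j
  | [], i, _, _, j, hj, hj' => absurd hj' (by simpa using hj)
  | w :: rest, i, hc, h, j, hj, hj' => by
    simp only [baseOK, Bool.and_eq_true, decide_eq_true_eq] at hc
    rcases Nat.eq_or_lt_of_le hj with rfl | hlt
    · rw [Holds, eqW_eq hc.1.1, hc.1.2, val_single]
      exact h 0 (by simp)
    · refine base_holds hc.2 (fun k hk => ?_) j hlt (by simp only [List.length_cons] at hj'; omega)
      have := h (k + 1) (by simpa using hk)
      rw [show i + (k + 1) = i + 1 + k by omega] at this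
      simpa using this

end Cfsg.Agent.H32.TailCert
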