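import Cfsg.Agent.H32.TailCert.Check
import Cfsg.Prelude.Def_KGroupFacts

/-!
An upper bound for the kernel of a stem extension of a group presented on involutions, from a
derivation certificate among the relators: lifts of the generators are turned into involutions in a
pushout, and the central values of the relators are shown to lie, where the parity vanishes, in a
cyclic group.
-/

set_option autoImplicit false

namespace Cfsg.Agent.H32.TailCert

open Subgroup
open Cfsg.Agent.H45 (evalW evalW_append evalW_cons evalW_nil)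
open scoped IsMulCommutative commutatorElement

/-- A derivation certificate. -/
structure Cert where
  K : ℕ
  facts : List Fact
  steps : List (List (List Item))

/-- The checks of a derivation certificate. -/
def Cert.check (C : Cert) (B : List (List ℕ)) : Bool :=
  baseOK C.facts 0 B && stepsOK C.K C.facts B.length C.steps.flatten

/-- A vector is an integer combination of vectors of facts with empty word. -/
def combOK (C : Cert) (m : ℕ) (tgt : Vec) (cmb : List (ℤ × ℕ)) : Bool :=
  (cmb.all fun p => Nat.blt p.2 m && eqW (red (dec (C.facts.getD p.2 ⟨0, []⟩).w)) []) &&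
    veq C.K tgt (cmb.flatMap fun p => vscale p.1 (C.facts.getD p.2 ⟨0, []⟩).v)

section Values

variable {D : Type*} [Group D] {y : ℕ → D} {z : ℕ → Subgroup.center D} {C : Cert}
  {B : List (List ℕ)}

theorem Cert.holds (hy : ∀ l, y l * y l = 1) (h : C.check B = true)
    (hB : ∀ j, ∀ hj : j < B.length, evalW y B[j] = (z j : D)) :
    ∀ j < B.length + C.steps.flatten.length, Holds z C.facts y j := by
  simp only [Cert.check, Bool.and_eq_true] at h
  refine steps_hold hy h.2 fun j hj => base_holds h.1 (fun k hk => ?_) j (Nat.zero_le j)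
    (by omega)
  rw [Nat.zero_add]
  exact hB k hk

theorem val_eq_one_of_comb (hy : ∀ l, y l * y l = 1) {m : ℕ}
    (hh : ∀ j < m, Holds z C.facts y j) {tgt : Vec} {cmb : List (ℤ × ℕ)}
    (h : combOK C m tgt cmb = true) : val z tgt = 1 := by
  simp only [combOK, Bool.and_eq_true, List.all_eq_true] at h
  rw [val_eq_of_veq z h.2]
  obtain ⟨h1, -⟩ := h
  clear tgt
  induction cmb with
  | nil => rfl
  | cons p cmb ih =>
    have hp := h1 p List.mem_cons_self
    rw [List.flatMap_cons, val_append, ih fun q hq => h1 q (List.mem_cons_of_mem _ hq), mul_one,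
      val_vscale]
    have h3 : Holds z C.facts y p.2 := hh p.2 (by simpa using hp.1)
    rw [Holds, ← evalW_red hy, eqW_eq hp.2, evalW_nil] at h3
    rw [show val z (C.facts.getD p.2 ⟨0, []⟩).v = 1 from Subtype.ext h3.symm, one_zpow]

end Values

/-- In an abelian group, the subgroup generated by finitely many involutions consists of the
products over sublists. -/
theorem exists_sublist {A : Type*} [CommGroup A] (u : ℕ → A) :
    ∀ {Q : List ℕ}, (∀ q ∈ Q, u q * u q = 1) → ∀ a ∈ closure {x | ∃ q ∈ Q, u q = x},
      ∃ S ∈ Q.sublists, (S.map u).prod = a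
  | [], _, a, ha => by
    simp only [List.not_mem_nil, false_and, exists_false, Set.ofPred_false,
      Subgroup.closure_empty, mem_bot] at ha
    exact ⟨[], by simp, by simp [ha]⟩
  | q :: Q, hu, a, ha => by
    have hset : {x | ∃ r ∈ q :: Q, u r = x} = {u q} ∪ {x | ∃ r ∈ Q, u r = x} := by
      ext x
      simp [eq_comm]
    rw [hset, Subgroup.closure_union, mem_sup, ← zpowers_eq_closure] at ha
    obtain ⟨b, ⟨j, rfl⟩, c, hc, rfl⟩ := ha
    obtain ⟨S, hS, rfl⟩ := exists_sublist u (fun r hr => hu r (List.mem_cons_of_mem _ hr)) c hc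
    rw [List.mem_sublists] at hS
    rcases Int.even_or_odd' j with ⟨i, rfl | rfl⟩
    · refine ⟨S, List.mem_sublists.2 (hS.cons q), ?_⟩
      show _ = u q ^ (2 * i) * _
      rw [zpow_mul, zpow_two, hu q List.mem_cons_self, one_zpow, one_mul]
    · refine ⟨q :: S, List.mem_sublists.2 (hS.cons_cons q), ?_⟩
      show _ = u q ^ (2 * i + 1) * _
      rw [zpow_add_one, zpow_mul, zpow_two, hu q List.mem_cons_self, one_zpow, one_mul,
        List.map_cons, List.prod_cons]

section Parity

variable (L : ℕ)

/-- The parity of a letter. -/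
def par (l : ℕ) : Multiplicative (Fin L → ZMod 2) :=
  Multiplicative.ofAdd fun i => if i.1 = l then 1 else 0

theorem par_sq (l : ℕ) : par L l * par L l = 1 := by
  rw [par, ← ofAdd_add, ← ofAdd_zero]
  congr 1
  funext i
  show (if i.1 = l then (1 : ZMod 2) else 0) + (if i.1 = l then (1 : ZMod 2) else 0) = 0
  split <;> decide

end Parity

/-- The central values of relators with vanishing parity lie in a cyclic group: an element of the
subgroup generated by the pairs whose second component is trivial has first component in `H`. -/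
theorem mem_of_pairs {A P : Type*} [CommGroup A] [CommGroup P] (H : Subgroup A) (x : ℕ → A)
    (p : ℕ → P) (m : ℕ) (Q : List ℕ) (dc : ℕ → List ℕ)
    (hx : ∀ r < m, r ∉ Q → x r * ((dc r).map x).prod⁻¹ ∈ H)
    (hp : ∀ r < m, r ∉ Q → p r = ((dc r).map p).prod)
    (hdc : ∀ r < m, r ∉ Q → ∀ q ∈ dc r, q ∈ Q)
    (hx2 : ∀ q ∈ Q, x q * x q ∈ H) (hp2 : ∀ q ∈ Q, p q * p q = 1)
    (hind : ∀ S ∈ Q.sublists, (S.map p).prod = 1 → S = [])
    {a : A} (ha : (a, (1 : P)) ∈ closure {w : A × P | ∃ r < m, (x r, p r) = w}) : a ∈ H := by
  let φ : A × P →* (A ⧸ H) × P := (QuotientGroup.mk' H).prodMap (MonoidHom.id P)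
  let u : ℕ → (A ⧸ H) × P := fun q => ((x q : A ⧸ H), p q)
  have hu : ∀ q ∈ Q, u q * u q = 1 := fun q hq =>
    Prod.ext ((QuotientGroup.mk_mul H _ _).symm.trans ((QuotientGroup.eq_one_iff _).2 (hx2 q hq)))
      (hp2 q hq)
  have hgen : (closure {w : A × P | ∃ r < m, (x r, p r) = w}).map φ ≤
      closure {w | ∃ q ∈ Q, u q = w} := by
    rw [MonoidHom.map_closure, closure_le]
    rintro _ ⟨_, ⟨r, hr, rfl⟩, rfl⟩
    by_cases hq : r ∈ Q
    · exact subset_closure ⟨r, hq, rfl⟩
    · have he : φ (x r, p r) = ((dc r).map u).prod := by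
        have h1 : ((x r : A ⧸ H)) = (((dc r).map x).prod : A) := by
          rw [QuotientGroup.eq]
          have := H.inv_mem (hx r hr hq)
          rwa [mul_inv_rev, inv_inv, mul_comm] at this
        have h2 : ∀ l : List ℕ, (l.map u).prod = (QuotientGroup.mk' H (l.map x).prod, (l.map p).prod) := by
          intro l
          induction l with
          | nil => rfl
          | cons q l ih =>
            simp only [List.map_cons, List.prod_cons, ih, map_mul]
            rfl
        rw [h2]
        exact Prod.ext h1 (hp r hr hq)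
      rw [SetLike.mem_coe, he]
      exact list_prod_mem fun w hw => by
        obtain ⟨q, hq', rfl⟩ := List.mem_map.1 hw
        exact subset_closure ⟨q, hdc r hr hq q hq', rfl⟩
  obtain ⟨S, hS, hSa⟩ := exists_sublist u hu _ (hgen ⟨_, ha, rfl⟩)
  have hS2 : (S.map p).prod = 1 := by
    have := congrArg Prod.snd hSa
    rw [← MonoidHom.coe_snd, map_list_prod, List.map_map] at this
    simpa [φ, u, Function.comp_def] using this
  rw [hind S hS hS2] at hSa
  exact (QuotientGroup.eq_one_iff a).1 (congrArg Prod.fst hSa).symm

end Cfsg.Agent.H32.TailCert
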